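import Cfsg.Agent.Lib.Perm.CTSimple.Basic
import Mathlib

/-!
`PSL(2, q)` has transitive commuting for `q` even and fails to have it for odd `q ≥ 7`.
-/

namespace CfsgLib.CTSimple

open Matrix

variable {F : Type*} [Field F]

local notation "SL₂" => Matrix.SpecialLinearGroup (Fin 2) F
local notation "PSL₂" => Matrix.ProjectiveSpecialLinearGroup (Fin 2) F

theorem exists_scalar_of_psl_commute {A B : SL₂}
    (h : Commute (QuotientGroup.mk A : PSL₂) (QuotientGroup.mk B)) :
    ∃ r : F, r ^ 2 = 1 ∧ ∀ i j, (A * B).1 i j = r * (B * A).1 i j := by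
  have h' : (QuotientGroup.mk (B * A) : PSL₂) = QuotientGroup.mk (A * B) := h.eq.symm
  rw [QuotientGroup.eq, Matrix.SpecialLinearGroup.mem_center_iff] at h'
  obtain ⟨r, hr, he⟩ := h'
  refine ⟨r, by simpa using hr, fun i j => ?_⟩
  have h2 : (A * B).1 = (B * A).1 * Matrix.scalar (Fin 2) r := by
    rw [he, ← Matrix.SpecialLinearGroup.coe_mul, mul_inv_cancel_left]
  rw [h2, Matrix.scalar_apply, Matrix.mul_diagonal, mul_comm]

theorem psl_commute_of_scalar {A B : SL₂} {r : F} (hr : r ^ 2 = 1)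
    (he : ∀ i j, (A * B).1 i j = r * (B * A).1 i j) :
    Commute (QuotientGroup.mk A : PSL₂) (QuotientGroup.mk B) := by
  show (QuotientGroup.mk (A * B) : PSL₂) = QuotientGroup.mk (B * A)
  symm
  rw [QuotientGroup.eq, Matrix.SpecialLinearGroup.mem_center_iff]
  refine ⟨r, by simpa using hr, ?_⟩
  have h2 : (A * B).1 = (B * A).1 * Matrix.scalar (Fin 2) r := by
    ext i j
    rw [he, Matrix.scalar_apply, Matrix.mul_diagonal, mul_comm]
  rw [Matrix.SpecialLinearGroup.coe_mul, h2, ← mul_assoc, ← Matrix.SpecialLinearGroup.coe_mul,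
    inv_mul_cancel, Matrix.SpecialLinearGroup.coe_one, one_mul]

theorem psl_mk_ne_one {A : SL₂} (h : A.1 0 1 ≠ 0 ∨ A.1 0 0 ≠ A.1 1 1) :
    (QuotientGroup.mk A : PSL₂) ≠ 1 := by
  rw [Ne, QuotientGroup.eq_one_iff, Matrix.SpecialLinearGroup.mem_center_iff]
  rintro ⟨r, -, hr⟩
  rw [← hr, Matrix.scalar_apply] at h
  simp at h

theorem sl_mul_val (A B : SL₂) (i j : Fin 2) : (A * B).1 i j = (A.1 * B.1) i j := rfl

theorem not_ct_psl [Fintype F] (hodd : Odd (Fintype.card F)) (h7 : 7 ≤ Fintype.card F) :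
    ¬ IsCT PSL₂ := by
  classical
  intro hct
  have h2 : (2 : F) ≠ 0 := by
    refine Ring.two_ne_zero fun h => ?_
    have := FiniteField.even_card_of_char_two h
    obtain ⟨k, hk⟩ := hodd
    omega
  obtain ⟨t, ht⟩ : ∃ t : F, t ≠ 0 ∧ t * t ≠ 1 ∧ t * t ≠ -1 := by
    by_contra h
    push Not at h
    have hsub : (Finset.univ : Finset F) ⊆ {0} ∪ (Polynomial.nthRoots 2 (1 : F)).toFinset ∪
        (Polynomial.nthRoots 2 (-1 : F)).toFinset := by
      intro x _
      simp only [Finset.mem_union, Finset.mem_singleton, Multiset.mem_toFinset,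
        Polynomial.mem_nthRoots (show 0 < 2 by norm_num), pow_two]
      by_cases h0 : x = 0
      · exact Or.inl (Or.inl h0)
      by_cases h1 : x * x = 1
      · exact Or.inl (Or.inr h1)
      · exact Or.inr (h x h0 h1)
    have hc := Finset.card_le_card hsub
    have h1 := (Multiset.toFinset_card_le _).trans (Polynomial.card_nthRoots 2 (1 : F))
    have h2 := (Multiset.toFinset_card_le _).trans (Polynomial.card_nthRoots 2 (-1 : F))
    have h3 := (Finset.card_union_le ({0} ∪ (Polynomial.nthRoots 2 (1 : F)).toFinset)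
      (Polynomial.nthRoots 2 (-1 : F)).toFinset)
    have h4 := Finset.card_union_le ({0} : Finset F) (Polynomial.nthRoots 2 (1 : F)).toFinset
    rw [Finset.card_univ] at hc
    rw [Finset.card_singleton] at h4
    omega
  obtain ⟨ht0, ht1, htm⟩ := ht
  have hd : (1 : F) + t * t ≠ 0 := fun h => htm (by linear_combination h)
  set a : F := (1 - t * t) / (1 + t * t) with ha
  set b : F := 2 * t / (1 + t * t) with hb
  have hab : a * a + b * b = 1 := by
    rw [ha, hb, div_mul_div_comm, div_mul_div_comm, ← add_div,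
      div_eq_one_iff_eq (mul_ne_zero hd hd)]
    ring
  have ha0 : a ≠ 0 := by
    rw [ha]
    exact div_ne_zero (sub_ne_zero.mpr (Ne.symm ht1)) hd
  have hb0 : b ≠ 0 := by
    rw [hb]
    exact div_ne_zero (mul_ne_zero h2 ht0) hd
  clear_value a b
  obtain ⟨x, y, hxy⟩ : ∃ x y : F, x * x + y * y = -1 := by
    obtain ⟨x, y, h⟩ := FiniteField.exists_root_sum_quadratic
      (f := (Polynomial.X : Polynomial F) ^ 2) (g := (Polynomial.X : Polynomial F) ^ 2 + Polynomial.C 1)
      (Polynomial.degree_X_pow 2) (Polynomial.degree_X_pow_add_C (by norm_num) 1)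
      (Nat.odd_iff.mp hodd)
    refine ⟨x, y, ?_⟩
    simp at h
    linear_combination h
  let W : SL₂ := ⟨!![0, 1; -1, 0], by rw [Matrix.det_fin_two_of]; ring⟩
  let R : SL₂ := ⟨!![a, b; -b, a], by rw [Matrix.det_fin_two_of]; linear_combination hab⟩
  let J : SL₂ := ⟨!![x, y; y, -x], by rw [Matrix.det_fin_two_of]; linear_combination -hxy⟩
  have hRW : Commute (QuotientGroup.mk R : PSL₂) (QuotientGroup.mk W) :=
    psl_commute_of_scalar (r := 1) (one_pow 2) (by
      intro i j
      rw [sl_mul_val, sl_mul_val]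
      fin_cases i <;> fin_cases j <;> simp [R, W, Matrix.mul_apply, Fin.sum_univ_two])
  have hWJ : Commute (QuotientGroup.mk W : PSL₂) (QuotientGroup.mk J) :=
    psl_commute_of_scalar (r := -1) (by ring) (by
      intro i j
      rw [sl_mul_val, sl_mul_val]
      fin_cases i <;> fin_cases j <;> simp [J, W, Matrix.mul_apply, Fin.sum_univ_two])
  have hR1 : (QuotientGroup.mk R : PSL₂) ≠ 1 := psl_mk_ne_one (Or.inl (by simpa [R] using hb0))
  have hW1 : (QuotientGroup.mk W : PSL₂) ≠ 1 := psl_mk_ne_one (Or.inl (by simp [W]))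
  have hJ1 : (QuotientGroup.mk J : PSL₂) ≠ 1 := by
    by_cases hy : y = 0
    · refine psl_mk_ne_one (Or.inr ?_)
      simp only [J]
      simp
      intro h
      have hx : x = 0 := by
        have : (2 : F) * x = 0 := by linear_combination h
        exact (mul_eq_zero.mp this).resolve_left h2
      rw [hx, hy] at hxy
      simp at hxy
    · exact psl_mk_ne_one (Or.inl (by simpa [J] using hy))
  obtain ⟨r, hr, he⟩ := exists_scalar_of_psl_commute (hct _ _ _ hR1 hW1 hJ1 hRW hWJ)
  have e00 := he 0 0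
  have e01 := he 0 1
  rw [sl_mul_val, sl_mul_val] at e00 e01
  simp [R, J, Matrix.mul_apply, Fin.sum_univ_two] at e00 e01
  rcases sq_eq_one_iff.mp hr with hr | hr <;> subst hr
  · have h1 : (2 * b) * y = 0 := by linear_combination e00
    have h2' : (2 * b) * x = 0 := by linear_combination -e01
    have h2b : 2 * b ≠ 0 := mul_ne_zero h2 hb0
    rw [(mul_eq_zero.mp h1).resolve_left h2b, (mul_eq_zero.mp h2').resolve_left h2b] at hxy
    simp at hxy
  · have h1 : (2 * a) * x = 0 := by linear_combination e00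
    have h2' : (2 * a) * y = 0 := by linear_combination e01
    have h2a : 2 * a ≠ 0 := mul_ne_zero h2 ha0
    rw [(mul_eq_zero.mp h1).resolve_left h2a, (mul_eq_zero.mp h2').resolve_left h2a] at hxy
    simp at hxy

theorem commute_of_commute_nonscalar {M B C : Matrix (Fin 2) (Fin 2) F}
    (hM : M 0 1 ≠ 0 ∨ M 1 0 ≠ 0 ∨ M 0 0 ≠ M 1 1) (hB : B * M = M * B) (hC : C * M = M * C) :
    B * C = C * B := by
  have hb00 := congrFun (congrFun hB 0) 0
  have hb01 := congrFun (congrFun hB 0) 1
  have hb10 := congrFun (congrFun hB 1) 0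
  have hc00 := congrFun (congrFun hC 0) 0
  have hc01 := congrFun (congrFun hC 0) 1
  have hc10 := congrFun (congrFun hC 1) 0
  simp only [Matrix.mul_apply, Fin.sum_univ_two] at hb00 hb01 hb10 hc00 hc01 hc10
  have key : ∀ D : Matrix (Fin 2) (Fin 2) F,
      D 0 1 * M 1 0 = M 0 1 * D 1 0 → D 0 0 * M 0 1 + D 0 1 * M 1 1 = M 0 0 * D 0 1 + M 0 1 * D 1 1 →
      D 1 0 * M 0 0 + D 1 1 * M 1 0 = M 1 0 * D 0 0 + M 1 1 * D 1 0 →
      ∃ β : F, D 0 1 = β * M 0 1 ∧ D 1 0 = β * M 1 0 ∧ D 0 0 - D 1 1 = β * (M 0 0 - M 1 1) := by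
    intro D e1 e2 e3
    rcases hM with h | h | h
    · refine ⟨D 0 1 / M 0 1, by field_simp, ?_, ?_⟩
      · field_simp; linear_combination -e1
      · field_simp; linear_combination e2
    · refine ⟨D 1 0 / M 1 0, ?_, by field_simp, ?_⟩
      · field_simp; linear_combination e1
      · field_simp; linear_combination -e3
    · have h' : M 0 0 - M 1 1 ≠ 0 := sub_ne_zero.mpr h
      refine ⟨(D 0 0 - D 1 1) / (M 0 0 - M 1 1), ?_, ?_, by field_simp⟩
      · field_simp; linear_combination -e2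
      · field_simp; linear_combination e3
  obtain ⟨β, b1, b2, b3⟩ := key B (by linear_combination hb00) hb01 hb10
  obtain ⟨γ, c1, c2, c3⟩ := key C (by linear_combination hc00) hc01 hc10
  have b3' : B 0 0 = B 1 1 + β * (M 0 0 - M 1 1) := by linear_combination b3
  have c3' : C 0 0 = C 1 1 + γ * (M 0 0 - M 1 1) := by linear_combination c3
  ext i j
  fin_cases i <;> fin_cases j <;> simp [Matrix.mul_apply, Fin.sum_univ_two, b1, b2, b3', c1, c2, c3'] <;>
    ring

theorem ct_psl_two [Fintype F] {f : ℕ} (hf : Fintype.card F = 2 ^ f) : IsCT PSL₂ := by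
  have hchar : ringChar F = 2 := by
    by_contra h
    have hh := FiniteField.odd_card_of_char_ne_two h
    have hf0 : f ≠ 0 := by
      rintro rfl
      have := Fintype.one_lt_card (α := F)
      omega
    rw [hf] at hh
    obtain ⟨f, rfl⟩ : ∃ e, f = e + 1 := ⟨f - 1, by omega⟩
    rw [pow_succ] at hh
    omega
  haveI : CharP F 2 := hchar ▸ ringChar.charP F
  have hcenter : Subgroup.center (SL₂) = ⊥ := by
    rw [eq_bot_iff]
    intro A hA
    rw [Matrix.SpecialLinearGroup.mem_center_iff] at hA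
    obtain ⟨r, hr, he⟩ := hA
    rw [Fintype.card_fin] at hr
    have hr1 : r = 1 := by
      have : (r - 1) ^ 2 = 0 := by
        rw [sub_pow_char (p := 2), hr, one_pow, sub_self]
      exact sub_eq_zero.mp (eq_zero_of_pow_eq_zero this)
    rw [Subgroup.mem_bot]
    apply Subtype.ext
    rw [← he, hr1, map_one, Matrix.SpecialLinearGroup.coe_one]
  have hinj : ∀ A B : SL₂, (QuotientGroup.mk A : PSL₂) = QuotientGroup.mk B → A = B := by
    intro A B h
    rw [QuotientGroup.eq, hcenter, Subgroup.mem_bot, inv_mul_eq_one] at h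
    exact h
  intro a b c ha hb hc hab hbc
  obtain ⟨A, rfl⟩ := QuotientGroup.mk_surjective a
  obtain ⟨B, rfl⟩ := QuotientGroup.mk_surjective b
  obtain ⟨C, rfl⟩ := QuotientGroup.mk_surjective c
  have hB : B.1 0 1 ≠ 0 ∨ B.1 1 0 ≠ 0 ∨ B.1 0 0 ≠ B.1 1 1 := by
    by_contra h
    push Not at h
    apply hb
    rw [QuotientGroup.eq_one_iff, Matrix.SpecialLinearGroup.mem_center_iff]
    refine ⟨B.1 0 0, ?_, ?_⟩
    · have hdet := B.2
      rw [Matrix.det_fin_two, h.1, zero_mul, sub_zero, ← h.2.2] at hdet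
      rw [Fintype.card_fin, pow_two]
      exact hdet
    · ext i j
      fin_cases i <;> fin_cases j <;> simp [h.1, h.2.1, h.2.2]
  have h1 : A * B = B * A := hinj _ _ hab.eq
  have h2 : C * B = B * C := hinj _ _ hbc.eq.symm
  have h3 := commute_of_commute_nonscalar hB (congrArg Subtype.val h1) (congrArg Subtype.val h2)
  exact congrArg QuotientGroup.mk (Subtype.ext h3 : A * C = C * A)

end CfsgLib.CTSimple
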