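import Cfsg.Agent.Lib.Perm.CTSimple.Action
import Cfsg.Agent.Lib.Perm.CTSimple.Linear
import Cfsg.Agent.Lib.Perm.Zassenhaus.OddDegree
import Cfsg.Agent.Lib.Classical.ProjLine
import Cfsg.Agent.S0182
import Cfsg.Agent.S0731

/-!
Finite simple groups with transitive commuting are the groups `PSL(2, 2^f)`.
-/

namespace CfsgLib.CTSimple

open Subgroup CfsgLib.Invol MulAction

variable {G : Type*} [Group G]

theorem isCT_of_mulEquiv {H : Type*} [Group H] (e : G ≃* H) (h : IsCT H) : IsCT G := by
  intro a b c ha hb hc hab hbc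
  have := (h (e a) (e b) (e c) (by simpa using ha) (by simpa using hb) (by simpa using hc)
    (hab.map e) (hbc.map e)).map e.symm
  simpa using this

variable [Finite G] [IsSimpleGroup G] (hct : IsCT G) (hna : ¬ IsMulCommutative G)
include hct hna

theorem exists_invol : ∃ t : G, orderOf t = 2 := by
  haveI : Fact (Nat.Prime 2) := ⟨Nat.prime_two⟩
  by_contra h
  push Not at h
  have hodd : Odd (Nat.card G) := by
    rw [Nat.odd_iff, ← Nat.two_dvd_ne_zero]
    intro h2
    obtain ⟨t, ht⟩ := exists_prime_orderOf_dvd_card' (G := G) 2 h2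
    exact h t ht
  have hsol := Cfsg.Agent.S0182.result hodd (fun x hx a ha b hb => comm_of_mem hct hx ha hb)
  exact hna ⟨⟨fun a b => IsSimpleGroup.comm_iff_isSolvable.mpr hsol a b⟩⟩

variable {t : G} (ht : orderOf t = 2)
include ht

theorem numInv_lt : numInv t + 1 ≤ Nat.card (cent t) := by
  classical
  haveI : Fintype G := Fintype.ofFinite G
  have h := Nat.card_le_card_of_injective
    (fun o : Option {v : G // orderOf v = 2 ∧ v ∈ cent t} =>
      o.elim (1 : cent t) (fun v => ⟨v, v.2.2⟩)) (by
    rintro (- | v) (- | w) h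
    · rfl
    · exact absurd (congrArg Subtype.val h).symm (invol_ne_one w.2.1)
    · exact absurd (congrArg Subtype.val h) (invol_ne_one v.2.1)
    · exact congrArg some (Subtype.ext (congrArg Subtype.val h :)))
  rw [Finite.card_option] at h
  exact h

theorem odd_numInv : Odd (numInv t) := by
  classical
  let E : Subgroup G :=
    { carrier := {y | y ∈ cent t ∧ y * y = 1}
      one_mem' := ⟨one_mem _, one_mul 1⟩
      mul_mem' := fun {a b} ha hb => ⟨mul_mem ha.1 hb.1, by
        have hc := comm_of_mem hct (invol_ne_one ht) hb.1 ha.1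
        rw [mul_assoc, ← mul_assoc b a, hc.eq, mul_assoc a b, hb.2, mul_one, ha.2]⟩
      inv_mem' := fun {a} ha => ⟨inv_mem ha.1, by rw [← mul_inv_rev, ha.2, inv_one]⟩ }
  have e : Option {v : G // orderOf v = 2 ∧ v ∈ cent t} ≃ E :=
    Equiv.ofBijective (fun o => o.elim (1 : E) (fun v => ⟨v, v.2.2, invol_mul_self v.2.1⟩)) (by
      constructor
      · rintro (- | v) (- | w) h
        · rfl
        · exact absurd (congrArg Subtype.val h).symm (invol_ne_one w.2.1)
        · exact absurd (congrArg Subtype.val h) (invol_ne_one v.2.1)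
        · exact congrArg some (Subtype.ext (congrArg Subtype.val h :))
      · rintro ⟨y, hy, hy2⟩
        by_cases h1 : y = 1
        · exact ⟨none, Subtype.ext h1.symm⟩
        · exact ⟨some ⟨y, invol_iff.mpr ⟨hy2, h1⟩, hy⟩, rfl⟩)
  have hc : numInv t + 1 = Nat.card E := by
    rw [← Nat.card_congr e, Finite.card_option, numInv]
  have hdvd : orderOf t ∣ Nat.card E :=
    Subgroup.orderOf_dvd_natCard E ⟨self_mem_cent t, invol_mul_self ht⟩
  rw [ht, ← hc] at hdvd
  rw [Nat.odd_iff]
  omega

theorem card_cent_eq : Nat.card (cent t) = numInv t + 1 := by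
  classical
  haveI : Fintype (G ⧸ nrm t) := Fintype.ofFinite _
  refine le_antisymm ?_ (numInv_lt hct hna ht)
  have hZ := isZassenhaus hct ht hna
  set o : G ⧸ nrm t := ((1 : G) : G ⧸ nrm t) with ho
  have hstab : stabilizer G o = nrm t := by
    ext x
    rw [mem_stabilizer_iff, ho, smul_base_eq_iff, inv_one, one_mul, mul_one]
  have hbase : ∀ x : G ⧸ nrm t, x ≠ o → ∃ w : G, w ∉ nrm t ∧ x = (w : G ⧸ nrm t) := by
    intro x hx
    obtain ⟨w, rfl⟩ := QuotientGroup.mk_surjective x
    refine ⟨w, fun h => hx ?_, rfl⟩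
    rw [ho, QuotientGroup.eq, mul_one]
    exact inv_mem h
  have hle : cent t ≤ stabilizer G o := hstab.ge.trans' Subgroup.le_normalizer
  have hn : ((cent t).subgroupOf (stabilizer G o)).Normal := by
    constructor
    intro u hu g
    rw [Subgroup.mem_subgroupOf] at hu ⊢
    have hg : (g : G) ∈ nrm t := hstab.le g.2
    simpa using (Subgroup.mem_normalizer_iff.mp hg (u : G)).mp hu
  have hab : IsMulCommutative (cent t) :=
    ⟨⟨fun a b => Subtype.ext (comm_of_mem hct (invol_ne_one ht) a.2 b.2)⟩⟩
  have hreg : ∀ y z : G ⧸ nrm t, y ≠ o → z ≠ o → ∃! u : cent t, (u : G) • y = z := by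
    intro y z hy hz
    obtain ⟨v, hv, rfl⟩ := hbase y hy
    obtain ⟨w, hw, rfl⟩ := hbase z hz
    exact exists_unique_cent hct ht hna hv hw
  have hk := two_le_numInv hct ht hna
  have hlt := numInv_lt hct hna ht
  rcases Cfsg.Agent.S0731.result hZ o (cent t) hle hn hab hreg with ⟨h3, -⟩ | ⟨K, iK, iK', hchar, ⟨e⟩⟩
  · obtain ⟨g, hg⟩ : ∃ g, g ∉ nrm t := by
      by_contra h
      push Not at h
      exact not_normal_nrm hct ht hna ((Subgroup.eq_top_iff' _).mpr h)
    set p : G ⧸ nrm t := (g : G ⧸ nrm t) with hp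
    have hpo : p ≠ o := by
      rw [hp, ho, Ne, QuotientGroup.eq, mul_one, inv_mem_iff]
      exact hg
    by_cases hex : ∃ x₀, x₀ ≠ o ∧ x₀ ≠ p
    · obtain ⟨x₀, hx₀o, hx₀p⟩ := hex
      have hfix : ∀ d : ↥(stabilizer G o ⊓ stabilizer G p),
          (d : G) • x₀ ≠ o ∧ (d : G) • x₀ ≠ p := fun d =>
        ⟨fun h => hx₀o (MulAction.injective (d : G) (h.trans (Subgroup.mem_inf.mp d.2).1.symm)),
         fun h => hx₀p (MulAction.injective (d : G) (h.trans (Subgroup.mem_inf.mp d.2).2.symm))⟩
      have hsurj : Function.Surjective (fun d : ↥(stabilizer G o ⊓ stabilizer G p) =>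
          (⟨(d : G) • x₀, hfix d⟩ : {x : G ⧸ nrm t // x ≠ o ∧ x ≠ p})) := by
        rintro ⟨x, hxo, hxp⟩
        obtain ⟨e₁, a0, a1, a2⟩ :=
          CfsgLib.Perm.ZOdd.exists_emb hpo.symm hx₀o.symm hx₀p.symm
        obtain ⟨e₂, b0, b1, b2⟩ := CfsgLib.Perm.ZOdd.exists_emb hpo.symm hxo.symm hxp.symm
        obtain ⟨d, hd⟩ := h3.exists_smul_eq e₁ e₂
        have hdi : ∀ i, d • e₁ i = e₂ i := fun i =>
          congrArg (fun e : Fin 3 ↪ G ⧸ nrm t => e i) hd
        refine ⟨⟨d, Subgroup.mem_inf.mpr ⟨?_, ?_⟩⟩, Subtype.ext ?_⟩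
        · show d • o = o
          rw [← a0, hdi, b0, a0]
        · show d • p = p
          rw [← a1, hdi, b1, a1]
        · show d • x₀ = x
          rw [← a2, hdi, b2]
      have h1 := Nat.card_le_card_of_surjective _ hsurj
      rw [card_stab_pair hct ht hna hg] at h1
      have hfilter : Nat.card {x : G ⧸ nrm t // x ≠ o ∧ x ≠ p} + 2 = Fintype.card (G ⧸ nrm t) := by
        rw [Nat.card_eq_fintype_card, Fintype.card_subtype]
        have : (Finset.univ.filter fun x : G ⧸ nrm t => x ≠ o ∧ x ≠ p) = Finset.univ \ {o, p} := by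
          ext x; simp [not_or]
        rw [this, Finset.card_univ_diff, Finset.card_pair hpo.symm]
        have : 2 ≤ Fintype.card (G ⧸ nrm t) := by
          rw [← Finset.card_pair hpo.symm]; exact Finset.card_le_univ _
        omega
      have hcardG := card_eq_prod hct ht hna
      rw [← Subgroup.card_mul_index (nrm t), card_nrm hct ht hna, mul_comm] at hcardG
      have hidx := Nat.eq_of_mul_eq_mul_right
        (Nat.mul_pos Nat.card_pos (by omega : 0 < numInv t)) hcardG
      rw [Subgroup.index, Nat.card_eq_fintype_card] at hidx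
      omega
    · push Not at hex
      have hcardG := card_eq_prod hct ht hna
      rw [← Subgroup.card_mul_index (nrm t), card_nrm hct ht hna, mul_comm] at hcardG
      have hidx := Nat.eq_of_mul_eq_mul_right
        (Nat.mul_pos Nat.card_pos (by omega : 0 < numInv t)) hcardG
      rw [Subgroup.index, Nat.card_eq_fintype_card] at hidx
      have : Fintype.card (G ⧸ nrm t) ≤ 2 := by
        rw [← Finset.card_univ, ← Finset.card_pair hpo.symm]
        refine Finset.card_le_card fun x _ => ?_
        by_cases hx : x = o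
        · simp [hx]
        · simp [hex x hx]
      omega
  · have hq : ¬ 7 ≤ Fintype.card K := fun h7 =>
      not_ct_psl (Nat.odd_iff.mpr (FiniteField.odd_card_of_char_ne_two hchar)) h7
        (isCT_of_mulEquiv e.symm hct)
    have hbound : Nat.card G ≤ 168 := by
      rw [Nat.card_congr e.toEquiv]
      have h := CfsgLib.Classical.card_psl2 (F := K)
      have hg : 1 ≤ Nat.gcd 2 (Fintype.card K - 1) := Nat.gcd_pos_of_pos_left _ (by norm_num)
      have hle6 : Fintype.card K * ((Fintype.card K - 1) * (Fintype.card K + 1)) ≤ 168 := by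
        have hq5 : Fintype.card K ≤ 5 := by
          have := FiniteField.odd_card_of_char_ne_two hchar
          omega
        interval_cases (Fintype.card K) <;> norm_num
      calc Nat.card (Matrix.ProjectiveSpecialLinearGroup (Fin 2) K)
          ≤ Nat.gcd 2 (Fintype.card K - 1) *
            Nat.card (Matrix.ProjectiveSpecialLinearGroup (Fin 2) K) := Nat.le_mul_of_pos_left _ hg
        _ ≤ 168 := h ▸ hle6
    rw [card_eq_prod hct ht hna] at hbound
    have heven : 2 ∣ Nat.card (cent t) := ht ▸ Subgroup.orderOf_dvd_natCard _ (self_mem_cent t)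
    have hko := odd_numInv hct hna ht
    obtain ⟨j, hj⟩ := hko
    by_contra hcon
    have h6 : 6 ≤ Nat.card (cent t) := by omega
    have h3k : 3 ≤ numInv t := by omega
    by_cases h8 : 8 ≤ Nat.card (cent t)
    · have : 9 * (8 * 3) ≤ (Nat.card (cent t) + 1) * (Nat.card (cent t) * numInv t) :=
        Nat.mul_le_mul (by omega) (Nat.mul_le_mul h8 h3k)
      omega
    · -- order six: the centraliser would be cyclic of order six with at least three involutions
      have ha : Nat.card (cent t) = 6 := by omega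
      have hkk : numInv t = 3 := by omega
      haveI : Fact (Nat.Prime 3) := ⟨Nat.prime_three⟩
      exact coprime_prime hct ht hna Nat.prime_three (by omega) (by omega)

theorem exists_psl : ∃ (F : Type) (_ : Field F) (_ : Fintype F) (f : ℕ), 2 ≤ f ∧
    Fintype.card F = 2 ^ f ∧ Nonempty (G ≃* Matrix.ProjectiveSpecialLinearGroup (Fin 2) F) := by
  classical
  haveI : Fintype (G ⧸ nrm t) := Fintype.ofFinite _
  have ha := card_cent_eq hct hna ht
  have hk := two_le_numInv hct ht hna
  -- the centraliser is a 2-group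
  have hall : ∀ y : cent t, y * y = 1 := by
    intro y
    by_contra hy
    have hy1 : (y : G) ≠ 1 := fun h => hy (Subtype.ext (by simp [h]))
    have hyi : orderOf (y : G) ≠ 2 := fun h => hy (Subtype.ext (invol_mul_self h))
    haveI : Fintype G := Fintype.ofFinite G
    have h := Nat.card_le_card_of_injective
      (fun o : Option (Option {v : G // orderOf v = 2 ∧ v ∈ cent t}) =>
        o.elim y (fun o => o.elim (1 : cent t) (fun v => ⟨v, v.2.2⟩))) (by
      rintro (- | - | v) (- | - | w) h
      · rfl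
      · exact absurd (congrArg Subtype.val h) hy1
      · exact absurd ((congrArg orderOf (congrArg Subtype.val h :)).trans w.2.1) hyi
      · exact absurd (congrArg Subtype.val h).symm hy1
      · rfl
      · exact absurd (congrArg Subtype.val h).symm (invol_ne_one w.2.1)
      · exact absurd ((congrArg orderOf (congrArg Subtype.val h :).symm).trans v.2.1) hyi
      · exact absurd (congrArg Subtype.val h) (invol_ne_one v.2.1)
      · exact congrArg some (congrArg some (Subtype.ext (congrArg Subtype.val h :))))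
    rw [Finite.card_option, Finite.card_option, ha, numInv] at h
    omega
  haveI : Fact (Nat.Prime 2) := ⟨Nat.prime_two⟩
  obtain ⟨f, hf⟩ := IsPGroup.iff_card.mp
    (fun y => ⟨1, by rw [pow_one, pow_two]; exact hall y⟩ : IsPGroup 2 (cent t))
  have hf2 : 2 ≤ f := by
    by_contra h
    have : f = 0 ∨ f = 1 := by omega
    rcases this with rfl | rfl
    · rw [pow_zero] at hf
      omega
    · rw [pow_one] at hf
      omega
  have hcard : Fintype.card (G ⧸ nrm t) = 2 ^ f + 1 := by
    have hG := card_eq_prod hct ht hna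
    rw [← Subgroup.card_mul_index (nrm t), card_nrm hct ht hna, mul_comm] at hG
    have := Nat.eq_of_mul_eq_mul_right (Nat.mul_pos Nat.card_pos (by omega : 0 < numInv t)) hG
    rw [Subgroup.index, Nat.card_eq_fintype_card, hf] at this
    exact this
  obtain ⟨hfaith, h2, h3pt, -, -⟩ := isZassenhaus hct ht hna
  haveI := hfaith
  let φ := MulAction.toPermHom G (G ⧸ nrm t)
  have hφ : Function.Injective φ := MulAction.toPerm_injective
  have hsm : ∀ (g : G) (x : G ⧸ nrm t), (⟨φ g, g, rfl⟩ : φ.range) • x = g • x := fun _ _ => rfl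
  -- three points can be moved to three points
  have hmove : ∀ a b c a' b' c' : G ⧸ nrm t, a ≠ b → a ≠ c → b ≠ c → a' ≠ b' → a' ≠ c' → b' ≠ c' →
      ∃ g : G, g • a = a' ∧ g • b = b' ∧ g • c = c' := by
    intro a b c a' b' c' hab hac hbc hab' hac' hbc'
    set o : G ⧸ nrm t := ((1 : G) : G ⧸ nrm t) with ho
    obtain ⟨s, hs⟩ := MulAction.exists_smul_eq G a o
    obtain ⟨g, hg, hgb⟩ : ∃ g : G, g ∉ nrm t ∧ s • b = (g : G ⧸ nrm t) := by
      obtain ⟨w, hw⟩ := QuotientGroup.mk_surjective (s • b)
      refine ⟨w, fun h => hab (MulAction.injective s ?_), hw.symm⟩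
      show s • a = s • b
      rw [hs, ← hw, ho, QuotientGroup.eq, inv_one, one_mul]
      exact h
    set p : G ⧸ nrm t := (g : G ⧸ nrm t) with hp
    have hpo : o ≠ p := by
      rw [hp, ho, Ne, QuotientGroup.eq, inv_one, one_mul]
      exact hg
    obtain ⟨r, hr1, hr2⟩ := (MulAction.is_two_pretransitive_iff.mp h2) hab' hpo
    have hc1 : s • c ≠ o ∧ s • c ≠ p :=
      ⟨fun h => hac (MulAction.injective s (hs.trans h.symm)),
       fun h => hbc (MulAction.injective s (hgb.trans h.symm))⟩
    have hc2 : r • c' ≠ o ∧ r • c' ≠ p :=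
      ⟨fun h => hac' (MulAction.injective r (hr1.trans h.symm)),
       fun h => hbc' (MulAction.injective r (hr2.trans h.symm))⟩
    have hfix : ∀ d : ↥(stabilizer G o ⊓ stabilizer G p),
        (d : G) • (s • c) ≠ o ∧ (d : G) • (s • c) ≠ p := fun d =>
      ⟨fun h => hc1.1 (MulAction.injective (d : G) (h.trans (Subgroup.mem_inf.mp d.2).1.symm)),
       fun h => hc1.2 (MulAction.injective (d : G) (h.trans (Subgroup.mem_inf.mp d.2).2.symm))⟩
    have hinj : Function.Injective (fun d : ↥(stabilizer G o ⊓ stabilizer G p) =>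
        (⟨(d : G) • (s • c), hfix d⟩ : {x : G ⧸ nrm t // x ≠ o ∧ x ≠ p})) := by
      intro d d' h
      have h' : (d : G) • (s • c) = (d' : G) • (s • c) := congrArg Subtype.val h
      have hm := mul_mem (inv_mem d'.2) d.2
      have := h3pt ((d' : G)⁻¹ * d) o p (s • c) hpo hc1.2.symm hc1.1.symm
        (Subgroup.mem_inf.mp hm).1 (Subgroup.mem_inf.mp hm).2
        (by rw [mul_smul, h', inv_smul_smul])
      exact Subtype.ext (inv_mul_eq_one.mp this).symm
    have hbij := (Nat.bijective_iff_injective_and_card _).mpr ⟨hinj, by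
      rw [card_stab_pair hct ht hna hg, Nat.card_eq_fintype_card, Fintype.card_subtype]
      have : (Finset.univ.filter fun x : G ⧸ nrm t => x ≠ o ∧ x ≠ p) = Finset.univ \ {o, p} := by
        ext x; simp [not_or]
      rw [this, Finset.card_univ_diff, Finset.card_pair hpo, hcard]
      omega⟩
    obtain ⟨d, hd⟩ := hbij.surjective ⟨r • c', hc2⟩
    have hd' : (d : G) • (s • c) = r • c' := congrArg Subtype.val hd
    refine ⟨r⁻¹ * d * s, ?_, ?_, ?_⟩
    · rw [mul_smul, mul_smul, hs, (Subgroup.mem_inf.mp d.2).1, ← hr1, inv_smul_smul]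
    · rw [mul_smul, mul_smul, hgb, (Subgroup.mem_inf.mp d.2).2, ← hr2, inv_smul_smul]
    · rw [mul_smul, mul_smul, hd', inv_smul_smul]
  have h3 : IsMultiplyPretransitive φ.range (G ⧸ nrm t) 3 := by
    constructor
    intro x y
    obtain ⟨g, g0, g1, g2⟩ := hmove (x 0) (x 1) (x 2) (y 0) (y 1) (y 2)
      (x.injective.ne (by decide)) (x.injective.ne (by decide)) (x.injective.ne (by decide))
      (y.injective.ne (by decide)) (y.injective.ne (by decide)) (y.injective.ne (by decide))
    refine ⟨⟨φ g, g, rfl⟩, ?_⟩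
    ext i
    show (⟨φ g, g, rfl⟩ : φ.range) • x i = y i
    fin_cases i <;> rw [hsm] <;> assumption
  have hsharp : ∀ x : Fin 3 ↪ G ⧸ nrm t, stabilizer φ.range x = ⊥ := by
    intro x
    rw [eq_bot_iff]
    rintro ⟨_, g, rfl⟩ hg
    have hi : ∀ i, g • x i = x i := fun i => congrArg (fun e : Fin 3 ↪ G ⧸ nrm t => e i) hg
    have := h3pt g (x 0) (x 1) (x 2) (x.injective.ne (by decide)) (x.injective.ne (by decide))
      (x.injective.ne (by decide)) (hi 0) (hi 1) (hi 2)
    subst this
    rw [Subgroup.mem_bot]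
    exact Subtype.ext (map_one φ)
  obtain ⟨K, iK, iK', hK, ⟨e⟩⟩ := CfsgLib.Perm.ZOdd.iso_pgl (by omega) hcard h3 hsharp
  refine ⟨K, iK, iK', f, hf2, hK, ⟨?_⟩⟩
  refine ((MonoidHom.ofInjective hφ).trans e).trans (MulEquiv.ofBijective _
    ⟨Matrix.ProjectiveSpecialLinearGroup.toPGL_injective,
      Matrix.ProjectiveSpecialLinearGroup.toPGL_surj_of_roots ?_⟩).symm
  intro r
  have hchar : ringChar K = 2 := by
    by_contra h
    have hh := FiniteField.odd_card_of_char_ne_two h
    rw [hK] at hh
    obtain ⟨f, rfl⟩ : ∃ e, f = e + 1 := ⟨f - 1, by omega⟩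
    rw [pow_succ] at hh
    omega
  obtain ⟨s, hs⟩ := FiniteField.isSquare_of_char_two hchar (r : K)
  have hs0 : s ≠ 0 := fun h => r.ne_zero (by rw [hs, h, mul_zero])
  exact ⟨Units.mk0 s hs0, Units.ext (by rw [Fintype.card_fin, pow_two]; exact hs.symm)⟩

end CfsgLib.CTSimple
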