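import Cfsg.Agent.Lib.Invol.Basic
import Mathlib.GroupTheory.Transfer
import Mathlib.GroupTheory.Subgroup.Simple

/-!
Finite groups in which commuting is transitive on the non-identity elements: involution
centralisers, their normalisers, and the conjugacy of involutions in the simple case.
-/

namespace CfsgLib.CTSimple

open Subgroup

variable {G : Type*} [Group G]

/-- Commuting is transitive on non-identity elements. -/
def IsCT (G : Type*) [Group G] : Prop :=
  ∀ a b c : G, a ≠ 1 → b ≠ 1 → c ≠ 1 → Commute a b → Commute b c → Commute a c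

/-- The centraliser of an element. -/
abbrev cent (x : G) : Subgroup G := Subgroup.centralizer ({x} : Set G)

theorem mem_cent {g x : G} : g ∈ cent x ↔ Commute g x := by
  rw [Subgroup.mem_centralizer_iff]
  exact ⟨fun h => (h x rfl).symm, fun h y hy => by rw [Set.mem_singleton_iff.mp hy]; exact h.symm⟩

theorem self_mem_cent (x : G) : x ∈ cent x := mem_cent.mpr (Commute.refl x)

theorem mem_cent_conj {g h x : G} : h ∈ cent (g * x * g⁻¹) ↔ g⁻¹ * h * g ∈ cent x := by
  rw [mem_cent, mem_cent]
  constructor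
  · intro hc
    have := hc.map (MulAut.conj g⁻¹).toMonoidHom
    simpa [mul_assoc] using this
  · intro hc
    have := hc.map (MulAut.conj g).toMonoidHom
    simpa [mul_assoc] using this

variable (hct : IsCT G)
include hct

theorem comm_of_mem {x a b : G} (hx : x ≠ 1) (ha : a ∈ cent x) (hb : b ∈ cent x) : Commute a b := by
  by_cases ha1 : a = 1
  · subst ha1; exact Commute.one_left b
  by_cases hb1 : b = 1
  · subst hb1; exact Commute.one_right a
  exact hct a x b ha1 hx hb1 (mem_cent.mp ha) (mem_cent.mp hb).symm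

theorem cent_eq {x y : G} (hx : x ≠ 1) (hy : y ≠ 1) (h : y ∈ cent x) : cent y = cent x := by
  ext a
  by_cases ha : a = 1
  · simp [ha]
  rw [mem_cent, mem_cent]
  exact ⟨fun h1 => hct a y x ha hy hx h1 (mem_cent.mp h),
    fun h1 => hct a x y ha hx hy h1 (mem_cent.mp h).symm⟩

theorem commute_invol_of_not_conj [Finite G] {t v : G} (ht : orderOf t = 2) (hv : orderOf v = 2)
    (h : ¬ IsConj t v) : Commute t v := by
  have heven : Even (orderOf (t * v)) := by
    rcases Nat.even_or_odd (orderOf (t * v)) with he | ho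
    · exact he
    · exact absurd (CfsgLib.Invol.isConj_of_odd ht hv ho) h
  have hw := CfsgLib.Invol.orderOf_pow_half heven
  exact hct _ _ _ (CfsgLib.Invol.invol_ne_one ht) (CfsgLib.Invol.invol_ne_one hw)
    (CfsgLib.Invol.invol_ne_one hv)
    (CfsgLib.Invol.commute_pow_half (CfsgLib.Invol.invol_conj_mul ht hv) heven).symm
    (CfsgLib.Invol.commute_pow_half (CfsgLib.Invol.invol_conj_mul' ht hv) heven)

theorem not_normal_cent [IsSimpleGroup G] (hna : ¬ IsMulCommutative G) {x : G} (hx : x ≠ 1) :
    ¬ (cent x).Normal := by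
  intro hn
  rcases hn.eq_bot_or_eq_top with h | h
  · exact hx (Subgroup.mem_bot.mp (h ▸ self_mem_cent x))
  · exact hna ⟨⟨fun a b => comm_of_mem hct hx (h ▸ Subgroup.mem_top a) (h ▸ Subgroup.mem_top b)⟩⟩

theorem isConj_invol [Finite G] [IsSimpleGroup G] (hna : ¬ IsMulCommutative G) {t v : G}
    (ht : orderOf t = 2) (hv : orderOf v = 2) : IsConj t v := by
  by_contra hne
  have h1 : ∀ g : G, g * t * g⁻¹ ∈ cent v := by
    intro g
    rw [mem_cent]
    refine commute_invol_of_not_conj hct (CfsgLib.Invol.invol_conj ht g) hv fun h => hne ?_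
    exact (isConj_iff.mpr ⟨g, rfl⟩).trans h
  have hle : Subgroup.normalClosure ({t} : Set G) ≤ cent v := by
    rw [Subgroup.normalClosure, Subgroup.closure_le]
    intro x hx
    obtain ⟨a, ha, hax⟩ := Group.mem_conjugatesOfSet_iff.mp hx
    obtain ⟨g, rfl⟩ := isConj_iff.mp hax
    rw [Set.mem_singleton_iff.mp ha]
    exact h1 g
  rcases (Subgroup.normalClosure_normal (s := ({t} : Set G))).eq_bot_or_eq_top with h | h
  · exact CfsgLib.Invol.invol_ne_one ht
      (Subgroup.mem_bot.mp (h ▸ Subgroup.subset_normalClosure (Set.mem_singleton t)))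
  · rw [h] at hle
    exact hna ⟨⟨fun a b => comm_of_mem hct (CfsgLib.Invol.invol_ne_one hv) (hle (mem_top a))
      (hle (mem_top b))⟩⟩

omit hct in
theorem cent_conj_eq_map (g x : G) :
    cent (g * x * g⁻¹) = (cent x).map (MulAut.conj g).toMonoidHom := by
  ext h
  rw [mem_cent_conj, Subgroup.mem_map]
  constructor
  · intro hh
    exact ⟨_, hh, by simp [mul_assoc]⟩
  · rintro ⟨y, hy, rfl⟩
    simpa [mul_assoc] using hy

theorem mem_normalizer_cent_iff {x g : G} (hx : x ≠ 1) :
    g ∈ Subgroup.normalizer ((cent x : Subgroup G) : Set G) ↔ g * x * g⁻¹ ∈ cent x := by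
  constructor
  · intro h
    exact (Subgroup.mem_normalizer_iff.mp h x).mp (self_mem_cent x)
  · intro h
    have hne : g * x * g⁻¹ ≠ 1 := by simpa using hx
    rw [Subgroup.mem_normalizer_iff_map_conj_eq]
    exact (cent_conj_eq_map g x).symm.trans (cent_eq hct hx hne h)

/-- An involution normalising an involution centraliser lies in it. -/
theorem invol_mem_cent {t i : G} (ht : orderOf t = 2) (hi : orderOf i = 2)
    (hN : i ∈ Subgroup.normalizer ((cent t : Subgroup G) : Set G)) : i ∈ cent t := by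
  have hy := (mem_normalizer_cent_iff hct (CfsgLib.Invol.invol_ne_one ht)).mp hN
  rw [CfsgLib.Invol.invol_inv hi] at hy
  by_cases hz : t * (i * t * i) = 1
  · have h2 : i * t * i = t := by
      have := congrArg (fun w => t * w) hz
      simpa [← mul_assoc, CfsgLib.Invol.invol_mul_self ht] using this
    rw [mem_cent]
    show i * t = t * i
    have := congrArg (fun w => w * i) h2
    simpa [mul_assoc, CfsgLib.Invol.invol_mul_self hi] using this
  · have hzA : t * (i * t * i) ∈ cent t := mul_mem (self_mem_cent t) hy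
    rw [← cent_eq hct (CfsgLib.Invol.invol_ne_one ht) hz hzA, mem_cent]
    have hc : Commute t (i * t * i) := (mem_cent.mp hy).symm
    show i * (t * (i * t * i)) = t * (i * t * i) * i
    have h1 : i * (t * (i * t * i)) = i * (i * t * i * t) := by rw [hc.eq]
    rw [h1]
    simp only [← mul_assoc, CfsgLib.Invol.invol_mul_self hi, one_mul]
    simp only [mul_assoc, CfsgLib.Invol.invol_mul_self hi, mul_one]

/-- Two centralisers of involutions meet trivially unless equal. -/
theorem cent_inter {x y z : G} (hx : x ≠ 1) (hy : y ≠ 1) (hz : z ≠ 1) (h1 : z ∈ cent x)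
    (h2 : z ∈ cent y) : cent x = cent y :=
  (cent_eq hct hx hz h1).symm.trans (cent_eq hct hy hz h2)

theorem exists_second_invol [Finite G] [IsSimpleGroup G] (hna : ¬ IsMulCommutative G) {t : G}
    (ht : orderOf t = 2) : ∃ t' : G, orderOf t' = 2 ∧ t' ∈ cent t ∧ t' ≠ t := by
  by_contra hno
  push Not at hno
  haveI : Fact (Nat.Prime 2) := ⟨Nat.prime_two⟩
  have ht1 := CfsgLib.Invol.invol_ne_one ht
  obtain ⟨S, hS⟩ := (IsPGroup.of_card (n := 1) (by rw [Nat.card_zpowers, ht, pow_one]) :
    IsPGroup 2 (Subgroup.zpowers t)).exists_le_sylow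
  have htS : t ∈ (S : Subgroup G) := hS (Subgroup.mem_zpowers t)
  haveI : Nontrivial (S : Subgroup G) :=
    ⟨⟨⟨t, htS⟩, 1, fun h => ht1 (congrArg Subtype.val h)⟩⟩
  haveI := S.2.center_nontrivial
  obtain ⟨⟨z, hz⟩, hz1⟩ := exists_ne (1 : Subgroup.center (S : Subgroup G))
  have hzc : ∀ s : (S : Subgroup G), Commute (s : G) (z : G) := fun s =>
    congrArg Subtype.val (Subgroup.mem_center_iff.mp hz s)
  have hzne : (z : G) ≠ 1 := fun h => hz1 (Subtype.ext (Subtype.ext h))
  have hSA : (S : Subgroup G) ≤ cent t := by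
    intro s hs
    rw [cent_eq hct hzne ht1 (mem_cent.mpr (hzc ⟨t, htS⟩))]
    exact mem_cent.mpr (hzc ⟨s, hs⟩)
  have hP : Subgroup.normalizer ((S : Subgroup G) : Set G) ≤
      Subgroup.centralizer ((S : Subgroup G) : Set G) := by
    intro n hn
    have h1 : n * t * n⁻¹ ∈ cent t := hSA ((Subgroup.mem_normalizer_iff.mp hn t).mp htS)
    have h2 : n * t * n⁻¹ = t := hno _ (CfsgLib.Invol.invol_conj ht n) h1
    have hnA : n ∈ cent t := mem_cent.mpr (mul_inv_eq_iff_eq_mul.mp h2)
    rw [Subgroup.mem_centralizer_iff]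
    exact fun s hs => comm_of_mem hct ht1 (hSA hs) hnA
  have hc := MonoidHom.ker_transferSylow_isComplement' S hP
  rcases (MonoidHom.normal_ker (MonoidHom.transferSylow S hP)).eq_bot_or_eq_top with h | h
  · rw [h, Subgroup.isComplement'_bot_left] at hc
    exact hna ⟨⟨fun a b => comm_of_mem hct ht1 (hSA (hc ▸ mem_top a)) (hSA (hc ▸ mem_top b))⟩⟩
  · rw [h, Subgroup.isComplement'_top_left] at hc
    exact ht1 (Subgroup.mem_bot.mp (hc ▸ htS))

end CfsgLib.CTSimple
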