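import Cfsg.Agent.Lib.Perm.CTSimple.Basic
import Mathlib.Algebra.BigOperators.Group.Finset.Basic
import Mathlib.Algebra.Order.BigOperators.Group.Finset

/-!
Counting involutions in the cosets of the normaliser of an involution centraliser.
-/

namespace CfsgLib.CTSimple

open Subgroup CfsgLib.Invol

variable {G : Type*} [Group G]

/-- The normaliser of the centraliser of `t`. -/
abbrev nrm (t : G) : Subgroup G := Subgroup.normalizer ((cent t : Subgroup G) : Set G)

/-- The number of involutions in the centraliser of `t`. -/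
noncomputable def numInv (t : G) : ℕ := Nat.card {v : G // orderOf v = 2 ∧ v ∈ cent t}

/-- `nrm t ⊓ (nrm t)^v` -/
def dsub (t v : G) : Subgroup G := nrm t ⊓ (nrm t).comap (MulAut.conj v).toMonoidHom

theorem mem_dsub {t v x : G} : x ∈ dsub t v ↔ x ∈ nrm t ∧ v * x * v⁻¹ ∈ nrm t := Iff.rfl

variable [Finite G] (hct : IsCT G) {t : G} (ht : orderOf t = 2)
include hct ht

theorem dsub_inf_cent {v : G} (hv : orderOf v = 2) (hvN : v ∉ nrm t) {x : G} (hx : x ∈ dsub t v)
    (hxA : x ∈ cent t) : x = 1 := by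
  by_contra hx1
  have ht1 := invol_ne_one ht
  obtain ⟨hxN, hyN⟩ := mem_dsub.mp hx
  set y := v * x * v⁻¹ with hy
  have hyne : y ≠ 1 := by simpa [hy] using hx1
  have hc1 : x * y * x⁻¹ * y⁻¹ ∈ cent t := by
    rw [show x * y * x⁻¹ * y⁻¹ = x * (y * x⁻¹ * y⁻¹) by group]
    exact mul_mem hxA ((Subgroup.mem_normalizer_iff.mp hyN _).mp (inv_mem hxA))
  have hvy : v * y * v⁻¹ = x := by
    rw [hy, invol_inv hv]
    simp [← mul_assoc, invol_mul_self hv]
    simp [mul_assoc, invol_mul_self hv]
  have hc2 : v * (x * y * x⁻¹ * y⁻¹) * v⁻¹ ∈ cent t := by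
    rw [show v * (x * y * x⁻¹ * y⁻¹) * v⁻¹ =
      (v * x * v⁻¹) * (v * y * v⁻¹) * (v * x * v⁻¹)⁻¹ * (v * y * v⁻¹)⁻¹ by group, hvy, ← hy]
    exact mul_mem ((Subgroup.mem_normalizer_iff.mp hyN _).mp hxA) (inv_mem hxA)
  apply hvN
  by_cases hc : x * y * x⁻¹ * y⁻¹ = 1
  · have hcomm : Commute y x := by
      have h : x * y = y * x := by
        rw [mul_inv_eq_one, mul_inv_eq_iff_eq_mul] at hc
        exact hc
      exact h.symm
    have hyA : y ∈ cent t := by
      rw [← cent_eq hct ht1 hx1 hxA]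
      exact mem_cent.mpr hcomm
    show v ∈ Subgroup.normalizer ((cent t : Subgroup G) : Set G)
    rw [← cent_eq hct ht1 hx1 hxA] at hyA ⊢
    exact (mem_normalizer_cent_iff hct hx1).mpr hyA
  · show v ∈ Subgroup.normalizer ((cent t : Subgroup G) : Set G)
    rw [← cent_eq hct ht1 hc hc1] at hc2 ⊢
    exact (mem_normalizer_cent_iff hct hc).mpr hc2

theorem invol_mem_nrm_iff {v : G} (hv : orderOf v = 2) : v ∈ nrm t ↔ v ∈ cent t :=
  ⟨invol_mem_cent hct ht hv, fun h => Subgroup.le_normalizer h⟩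

theorem dsub_no_invol {v : G} (hv : orderOf v = 2) (hvN : v ∉ nrm t) {x : G} (hx : x ∈ dsub t v)
    (h2 : x * x ∈ cent t) : x = 1 := by
  by_contra hx1
  by_cases hsq : x * x = 1
  · exact hx1 (dsub_inf_cent hct ht hv hvN hx
      (invol_mem_cent hct ht (invol_iff.mpr ⟨hsq, hx1⟩) (mem_dsub.mp hx).1))
  · refine hx1 (dsub_inf_cent hct ht hv hvN hx ?_)
    rw [← cent_eq hct (invol_ne_one ht) hsq h2]
    exact mem_cent.mpr ((Commute.refl x).mul_right (Commute.refl x))

variable [IsSimpleGroup G] (hna : ¬ IsMulCommutative G)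
include hna

theorem relIndex_cent : (cent t).relIndex (nrm t) = numInv t := by
  have hle : cent t ≤ nrm t := Subgroup.le_normalizer
  have ht1 := invol_ne_one ht
  let f : nrm t ⧸ (cent t).subgroupOf (nrm t) → {v : G // orderOf v = 2 ∧ v ∈ cent t} :=
    Quotient.lift (fun n => ⟨(n : G) * t * (n : G)⁻¹, invol_conj ht _,
      (mem_normalizer_cent_iff hct ht1).mp n.2⟩) (by
      intro n m h
      replace h := QuotientGroup.leftRel_apply.mp h
      rw [Subgroup.mem_subgroupOf] at h
      refine Subtype.ext ?_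
      have hc := mem_cent.mp h
      simp only [Subgroup.coe_mul, Subgroup.coe_inv] at hc
      calc (n : G) * t * (n : G)⁻¹ = (n : G) * (((n : G)⁻¹ * m) * t * ((n : G)⁻¹ * m)⁻¹) * (n : G)⁻¹ := by
            rw [hc.eq, mul_inv_cancel_right]
        _ = (m : G) * t * (m : G)⁻¹ := by group)
  have hf : Function.Bijective f := by
    constructor
    · intro a b
      induction a using QuotientGroup.induction_on with
      | _ n =>
      induction b using QuotientGroup.induction_on with
      | _ m =>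
      intro h
      have h' : (n : G) * t * (n : G)⁻¹ = (m : G) * t * (m : G)⁻¹ := congrArg Subtype.val h
      rw [QuotientGroup.eq, Subgroup.mem_subgroupOf, mem_cent]
      show (n : G)⁻¹ * m * t = t * ((n : G)⁻¹ * m)
      calc (n : G)⁻¹ * m * t = (n : G)⁻¹ * ((m : G) * t * (m : G)⁻¹) * m := by group
        _ = t * ((n : G)⁻¹ * m) := by rw [← h']; group
    · rintro ⟨v, hv, hvA⟩
      obtain ⟨g, rfl⟩ := isConj_iff.mp (isConj_invol hct hna ht hv)
      exact ⟨((⟨g, (mem_normalizer_cent_iff hct ht1).mpr hvA⟩ : nrm t) : nrm t ⧸ _), rfl⟩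
  exact Nat.card_eq_of_bijective f hf

theorem card_invol : Nat.card {v : G // orderOf v = 2} = numInv t * (nrm t).index := by
  rw [← relIndex_cent hct ht hna,
    Subgroup.relIndex_mul_index (Subgroup.le_normalizer : cent t ≤ nrm t)]
  let f : G ⧸ cent t → {v : G // orderOf v = 2} :=
    Quotient.lift (fun n => ⟨n * t * n⁻¹, invol_conj ht _⟩) (by
      intro n m h
      replace h := QuotientGroup.leftRel_apply.mp h
      refine Subtype.ext ?_
      have hc := mem_cent.mp h
      calc n * t * n⁻¹ = n * ((n⁻¹ * m) * t * (n⁻¹ * m)⁻¹) * n⁻¹ := by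
            rw [hc.eq, mul_inv_cancel_right]
        _ = m * t * m⁻¹ := by group)
  have hf : Function.Bijective f := by
    constructor
    · intro a b
      induction a using QuotientGroup.induction_on with
      | _ n =>
      induction b using QuotientGroup.induction_on with
      | _ m =>
      intro h
      have h' : n * t * n⁻¹ = m * t * m⁻¹ := congrArg Subtype.val h
      rw [QuotientGroup.eq, mem_cent]
      show n⁻¹ * m * t = t * (n⁻¹ * m)
      calc n⁻¹ * m * t = n⁻¹ * (m * t * m⁻¹) * m := by group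
        _ = t * (n⁻¹ * m) := by rw [← h']; group
    · rintro ⟨v, hv⟩
      obtain ⟨g, rfl⟩ := isConj_iff.mp (isConj_invol hct hna ht hv)
      exact ⟨(g : G ⧸ cent t), rfl⟩
  exact (Nat.card_eq_of_bijective f hf).symm

theorem card_dsub_mul_le {v : G} (hv : orderOf v = 2) (hvN : v ∉ nrm t) :
    Nat.card (dsub t v) ≤ numInv t := by
  have hmul : Nat.card (dsub t v) * Nat.card (cent t) ≤ Nat.card (nrm t) := by
    rw [← Nat.card_prod]
    refine Nat.card_le_card_of_injective
      (fun q : dsub t v × cent t => (⟨(q.1 : G) * q.2,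
        mul_mem (mem_dsub.mp q.1.2).1 (Subgroup.le_normalizer q.2.2)⟩ : nrm t)) ?_
    rintro ⟨d, a⟩ ⟨d', a'⟩ h
    have h' : (d : G) * a = (d' : G) * a' := congrArg Subtype.val h
    have he : (d' : G)⁻¹ * d = (a' : G) * (a : G)⁻¹ := by
      rw [eq_mul_inv_iff_mul_eq, mul_assoc, h', inv_mul_cancel_left]
    have h1 := dsub_inf_cent hct ht hv hvN (mul_mem (inv_mem d'.2) d.2)
      (by rw [he]; exact mul_mem a'.2 (inv_mem a.2))
    have hd : d = d' := Subtype.ext (inv_mul_eq_one.mp h1).symm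
    subst hd
    rw [Subtype.ext (mul_left_cancel h')]
  have hidx := Subgroup.relIndex_mul_index (bot_le : (⊥ : Subgroup G) ≤ cent t)
  have hN : Nat.card (nrm t) = Nat.card (cent t) * numInv t := by
    rw [← relIndex_cent hct ht hna]
    have := Subgroup.card_mul_index ((cent t).subgroupOf (nrm t))
    rw [Nat.card_congr (Subgroup.subgroupOfEquivOfLe
      (Subgroup.le_normalizer : cent t ≤ nrm t)).toEquiv] at this
    exact this.symm
  rw [hN, mul_comm (Nat.card (cent t))] at hmul
  exact Nat.le_of_mul_le_mul_right hmul Nat.card_pos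

/-- Every coset outside the normaliser contains an involution inverting the corresponding
two-point stabiliser, whose order is the number of involutions of the centraliser. -/
theorem exists_coset_invol {g : G} (hg : g ∉ nrm t) :
    ∃ v : G, orderOf v = 2 ∧ v ∉ nrm t ∧ v⁻¹ * g ∈ nrm t ∧ Nat.card (dsub t v) = numInv t ∧
      ∀ x ∈ dsub t v, v * x * v⁻¹ = x⁻¹ := by
  classical
  haveI : Fintype G := Fintype.ofFinite G
  haveI : Fintype (G ⧸ nrm t) := Fintype.ofFinite _
  let I : Finset G := Finset.univ.filter fun v => orderOf v = 2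
  let F : G ⧸ nrm t → Finset G := fun p => I.filter fun v => (v : G ⧸ nrm t) = p
  have hout : ∀ {p : G ⧸ nrm t} {v : G}, p ≠ ((1 : G) : G ⧸ nrm t) → v ∈ F p →
      orderOf v = 2 ∧ v ∉ nrm t := by
    intro p v hp hv
    simp only [F, I, Finset.mem_filter, Finset.mem_univ, true_and] at hv
    refine ⟨hv.1, fun h => hp ?_⟩
    rw [← hv.2, QuotientGroup.eq, mul_one]
    exact inv_mem h
  have hinj : ∀ {p : G ⧸ nrm t} {v : G}, v ∈ F p →
      ∀ w ∈ F p, v * w ∈ dsub t v ∧ v * (v * w) * v⁻¹ = (v * w)⁻¹ := by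
    intro p v hv w hw
    simp only [F, I, Finset.mem_filter, Finset.mem_univ, true_and] at hv hw
    have hN : v * w ∈ nrm t := by
      have := QuotientGroup.eq.mp (hv.2.trans hw.2.symm)
      rwa [invol_inv hv.1] at this
    have he := invol_conj_mul hv.1 hw.1
    exact ⟨mem_dsub.mpr ⟨hN, by rw [he]; exact inv_mem hN⟩, he⟩
  have hle : ∀ p : G ⧸ nrm t, (F p).card ≤ numInv t := by
    intro p
    by_cases hp : p = ((1 : G) : G ⧸ nrm t)
    · subst hp
      rw [numInv, Nat.card_eq_fintype_card, Fintype.card_subtype]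
      refine Finset.card_le_card fun v hv => ?_
      simp only [F, I, Finset.mem_filter, Finset.mem_univ, true_and] at hv ⊢
      refine ⟨hv.1, invol_mem_cent hct ht hv.1 ?_⟩
      have := QuotientGroup.eq.mp hv.2
      rw [mul_one] at this
      exact inv_mem_iff.mp this
    rcases (F p).eq_empty_or_nonempty with h | ⟨v, hv⟩
    · simp [h]
    obtain ⟨hv2, hvN⟩ := hout hp hv
    refine le_trans ?_ (card_dsub_mul_le hct ht hna hv2 hvN)
    rw [← Fintype.card_coe, ← Nat.card_eq_fintype_card]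
    exact Nat.card_le_card_of_injective
      (fun w : F p => (⟨v * (w : G), (hinj hv w w.2).1⟩ : dsub t v))
      (fun a b h => Subtype.ext (mul_left_cancel (congrArg Subtype.val h)))
  have hsum : ∑ p : G ⧸ nrm t, (F p).card = ∑ _p : G ⧸ nrm t, numInv t := by
    rw [Finset.sum_const, Finset.card_univ, smul_eq_mul, ← Nat.card_eq_fintype_card,
      ← Finset.card_eq_sum_card_fiberwise (f := fun v : G => (v : G ⧸ nrm t))
        (s := I) (t := Finset.univ) (fun _ _ => by simp)]
    rw [mul_comm]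
    show I.card = numInv t * (nrm t).index
    rw [← card_invol hct ht hna, Nat.card_eq_fintype_card, Fintype.card_subtype]
  have hall : ∀ p : G ⧸ nrm t, (F p).card = numInv t := fun p =>
    (Finset.sum_eq_sum_iff_of_le (fun p _ => hle p)).mp hsum p (Finset.mem_univ p)
  have hk : 0 < numInv t := by
    rw [numInv]
    haveI : Nonempty {v : G // orderOf v = 2 ∧ v ∈ cent t} := ⟨⟨t, ht, self_mem_cent t⟩⟩
    exact Nat.card_pos
  set p : G ⧸ nrm t := (g : G ⧸ nrm t) with hp
  have hp1 : p ≠ ((1 : G) : G ⧸ nrm t) := by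
    rw [hp, Ne, QuotientGroup.eq, mul_one, inv_mem_iff]
    exact hg
  obtain ⟨v, hv⟩ := Finset.card_pos.mp (hk.trans_le (hall p).ge)
  obtain ⟨hv2, hvN⟩ := hout hp1 hv
  have hbij : Function.Bijective
      (fun w : F p => (⟨v * (w : G), (hinj hv w w.2).1⟩ : dsub t v)) := by
    refine (Nat.bijective_iff_injective_and_card _).mpr
      ⟨fun a b h => Subtype.ext (mul_left_cancel (congrArg Subtype.val h)), ?_⟩
    refine le_antisymm (Nat.card_le_card_of_injective _
      (fun a b h => Subtype.ext (mul_left_cancel (congrArg Subtype.val h)) :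
        Function.Injective (fun w : F p => (⟨v * (w : G), (hinj hv w w.2).1⟩ : dsub t v)))) ?_
    rw [Nat.card_eq_fintype_card (α := F p), Fintype.card_coe, hall p]
    exact card_dsub_mul_le hct ht hna hv2 hvN
  refine ⟨v, hv2, hvN, ?_, ?_, ?_⟩
  · simp only [F, Finset.mem_filter] at hv
    exact QuotientGroup.eq.mp hv.2
  · rw [← Nat.card_eq_of_bijective _ hbij, Nat.card_eq_fintype_card, Fintype.card_coe, hall p]
  · intro x hx
    obtain ⟨w, hw⟩ := hbij.surjective ⟨x, hx⟩
    have hx' : v * (w : G) = x := congrArg Subtype.val hw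
    rw [← hx']
    exact (hinj hv w w.2).2

/-- An element commuting with a nontrivial element of `nrm t` outside the centraliser
lies in `nrm t`. -/
theorem mem_nrm_of_commute {g d : G} (hd : d ∈ nrm t) (hd1 : d ≠ 1) (hdA : d ∉ cent t)
    (hc : Commute g d) : g ∈ nrm t := by
  by_contra hg
  obtain ⟨v, hv, hvN, hn, -, hinv⟩ := exists_coset_invol hct ht hna hg
  set n := v⁻¹ * g with hn'
  have hv' : v * d * v⁻¹ = n * d * n⁻¹ := by
    rw [hn', invol_inv hv]
    calc v * d * v = v * (g * d * g⁻¹) * v := by rw [hc.eq, mul_inv_cancel_right]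
      _ = v * g * d * (v * g)⁻¹ := by rw [mul_inv_rev, invol_inv hv]; group
  have hdD : d ∈ dsub t v :=
    mem_dsub.mpr ⟨hd, by rw [hv']; exact mul_mem (mul_mem hn hd) (inv_mem hn)⟩
  have hninv : n * d * n⁻¹ = d⁻¹ := by rw [← hv']; exact hinv d hdD
  obtain ⟨i, o, ho, he⟩ := Nat.exists_eq_two_pow_mul_odd (orderOf_pos n).ne'
  obtain ⟨j, rfl⟩ := ho
  set M := n ^ (2 * j + 1) with hM'
  have hM : M * d * M⁻¹ = d⁻¹ := by
    have h2 : Commute (n ^ 2) d := by
      show n ^ 2 * d = d * n ^ 2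
      have h : n ^ 2 * d * (n ^ 2)⁻¹ = d := by
        rw [pow_two, mul_inv_rev]
        calc n * n * d * (n⁻¹ * n⁻¹) = n * (n * d * n⁻¹) * n⁻¹ := by group
          _ = n * d⁻¹ * n⁻¹ := by rw [hninv]
          _ = (n * d * n⁻¹)⁻¹ := by group
          _ = d := by rw [hninv, inv_inv]
      exact mul_inv_eq_iff_eq_mul.mp h
    rw [hM', pow_succ', pow_mul, mul_assoc n, (h2.pow_left j).eq, mul_inv_rev, mul_assoc n,
      mul_assoc d, mul_inv_cancel_left, ← mul_assoc, hninv]
  have hMN : M ∈ nrm t := pow_mem hn _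
  by_cases hMA : M ∈ cent t
  · refine hd1 (dsub_no_invol hct ht hv hvN hdD ?_)
    have e : d * d = d * M * d⁻¹ * M⁻¹ := by
      rw [show d * M * d⁻¹ * M⁻¹ = d * (M * d * M⁻¹)⁻¹ by group, hM, inv_inv]
    rw [e]
    exact mul_mem ((Subgroup.mem_normalizer_iff.mp hd M).mp hMA) (inv_mem hMA)
  · have hM2 : M ^ (2 ^ i) = 1 := by
      rw [hM', ← pow_mul, mul_comm, ← he, pow_orderOf_eq_one]
    obtain ⟨s, -, hs⟩ := (Nat.dvd_prime_pow Nat.prime_two).mp (orderOf_dvd_of_pow_eq_one hM2)
    rcases s with - | s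
    · rw [pow_zero, orderOf_eq_one_iff] at hs
      exact hMA (hs ▸ one_mem _)
    have hz : orderOf (M ^ (2 ^ s)) = 2 := by
      rw [orderOf_pow, hs, Nat.gcd_eq_right (pow_dvd_pow 2 s.le_succ), pow_succ,
        Nat.mul_div_cancel_left _ (by positivity)]
    have hzA := invol_mem_cent hct ht hz (pow_mem hMN _)
    apply hMA
    rw [← cent_eq hct (invol_ne_one ht) (invol_ne_one hz) hzA]
    exact mem_cent.mpr ((Commute.refl M).pow_right _)

end CfsgLib.CTSimple
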